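import Groth.Agent.H28PicTan.NthRoot
import Groth.Agent.H28PicGrp.Group
import Groth.Agent.H28PicTan.Point
import Groth.Agent.H12Pic.PicCurve.SmoothPic
import Groth.Agent.H06EGA9.AtPoint
import Groth.Agent.H19Grp.EtaleEndo
import Groth.Agent.H9Hens.BranchNormal
import Groth.Agent.H8Props.FormallySmoothScheme

/-!
# Powers on a Picard scheme are étale where the exponent is invertible
-/

set_option autoImplicit false
set_option linter.style.haveILetI false
set_option linter.unusedSectionVars false
set_option backward.isDefEq.respectTransparency.types false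
set_option maxHeartbeats 1600000

noncomputable section

universe u

open CategoryTheory CategoryTheory.Limits AlgebraicGeometry Opposite TopologicalSpace
open MonoidalCategory CartesianMonoidalCategory MonObj
open Groth.Agent

namespace Groth.Agent.H28PicTan

open Groth.Agent.H25Theta (Cls cls pull)

variable {X S : Scheme.{u}} {f : X ⟶ S} {P : Over S}
  {φ : ∀ T : Over S, PicF.Cl (PicF.XT f T) → (T ⟶ P)}

theorem pow_mem {T : Over S} (c : H28PicGrp.IC f T) (n : ℕ) : PicF.IsInvertibleCl (c.1 ^ n) := by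
  induction n with
  | zero => exact (pow_zero c.1).symm ▸ (H28PicGrp.oneC T).2
  | succ n ih => exact (pow_succ c.1 n).symm ▸ (H28PicGrp.mulC ⟨_, ih⟩ c).2

/-- `φ` commutes with powers. -/
theorem pt_pow (hP : PicRel.IsRelPic f P φ) {T : Over S} (c : H28PicGrp.IC f T) (n : ℕ) :
    letI := H28PicGrp.grpObj hP
    φ T (c.1 ^ n) = (H28PicGrp.pt φ c) ^ n := by
  letI := H28PicGrp.grpObj hP
  induction n with
  | zero =>
    rw [pow_zero, pow_zero, H28PicGrp.one_eq hP]
    rfl
  | succ n ih =>
    rw [pow_succ, pow_succ, ← ih]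
    exact H28PicGrp.pt_mulC hP ⟨c.1 ^ n, pow_mem c n⟩ c

/-- A map inducing `L ↦ L^n` is the power map. -/
theorem eq_pow (hP : PicRel.IsRelPic f P φ) (n : ℕ) (m : P ⟶ P)
    (hm : ∀ (T : Over S) (L : (PicF.XT f T).Modules), PicF.IsInvertible L →
      φ T (PicF.cl (CohB1.tensorPow L n)) = φ T (PicF.cl L) ≫ m) :
    letI := H28PicGrp.grpObj hP
    m = (𝟙 P) ^ n := by
  letI := H28PicGrp.grpObj hP
  refine H28PicGrp.hom_ext_sieve (H28PicGrp.liftSieve_mem hP (𝟙 P)) fun V g hg => ?_
  obtain ⟨c, hc⟩ := H28PicGrp.exists_of_imageSieve hP hg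
  rw [Category.comp_id] at hc
  rw [MonObj.comp_pow, Category.comp_id, ← hc]
  obtain ⟨L, hL, hL'⟩ := c.2
  have h1 := hm V L hL'
  rw [hL] at h1
  rw [← h1, ← pt_pow hP c n]
  refine congrArg (φ V) ?_
  show cls (CohB1.tensorPow L n) = _
  rw [Groth.Agent.H25Theta.cls_pow]
  exact congrArg (· ^ n) (show cls L = c.1 from hL)

variable [IsLocallyNoetherian S] [IsProper f] [LocallyOfFiniteType P.hom]

/-- The restriction of a power map to the locus where the exponent is invertible is smooth. -/
theorem smooth_pow (hP : PicRel.IsRelPic f P φ) (n : ℕ) (m : P ⟶ P)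
    (hm : ∀ (T : Over S) (L : (PicF.XT f T).Modules), PicF.IsInvertible L →
      φ T (PicF.cl (CohB1.tensorPow L n)) = φ T (PicF.cl L) ≫ m) :
    Smooth ((P.left.basicOpen (n : Γ(P.left, ⊤))).ι ≫ m.left) := by
  haveI : IsLocallyNoetherian P.left := LocallyOfFiniteType.isLocallyNoetherian P.hom
  haveI : LocallyOfFiniteType (m.left ≫ P.hom) := by rw [Over.w m]; infer_instance
  haveI : LocallyOfFiniteType m.left := locallyOfFiniteType_of_comp m.left P.hom
  haveI : LocallyOfFinitePresentation m.left := inferInstance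
  let D := P.left.basicOpen (n : Γ(P.left, ⊤))
  refine H14IsoNat.SHCrit.smooth_of_lifting _ fun R _ _ _ I hI a b hab => ?_
  haveI : IsClosedImmersion (H14IsoNat.SHCrit.thick I) :=
    IsClosedImmersion.spec_of_surjective _ Ideal.Quotient.mk_surjective
  haveI : Nontrivial (R ⧸ I) := Ideal.Quotient.nontrivial_iff.2 (fun h => by
    rw [h, Ideal.top_pow] at hI; exact top_ne_bot hI)
  haveI : IsLocalRing (R ⧸ I) := IsLocalRing.of_surjective' (Ideal.Quotient.mk I) Ideal.Quotient.mk_surjective
  haveI : HenselianLocalRing (R ⧸ I) := H9Hens.henselianLocalRing_quotient I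
  haveI : IsLocalHom (Ideal.Quotient.mk I) := .of_surjective _ Ideal.Quotient.mk_surjective
  haveI : IsSepClosed (IsLocalRing.ResidueField (R ⧸ I)) :=
    H9Hens.isSepClosed_of_ringEquiv (RingEquiv.ofBijective (IsLocalRing.ResidueField.map (Ideal.Quotient.mk I))
      ⟨RingHom.injective _, fun y => by
        obtain ⟨y, rfl⟩ := IsLocalRing.residue_surjective y
        obtain ⟨x, rfl⟩ := Ideal.Quotient.mk_surjective y
        exact ⟨IsLocalRing.residue R x, rfl⟩⟩)
  let th := H14IsoNat.SHCrit.thick I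
  let b' : Spec (CommRingCat.of R) ⟶ S := b ≫ P.hom
  let Q : Over S := Over.mk b'
  let t : Spec (CommRingCat.of (R ⧸ I)) ⟶ S := th ≫ b'
  let j : Over.mk t ⟶ Q := Over.homMk th rfl
  let gT : Over.mk t ⟶ P := Over.homMk (a ≫ D.ι) (by
    show (a ≫ D.ι) ≫ P.hom = th ≫ b ≫ P.hom
    rw [← Category.assoc th, hab, Category.assoc, Category.assoc, Category.assoc, Over.w m])
  let gQ : Q ⟶ P := Over.homMk b rfl
  obtain ⟨c, hc, hcg⟩ := exists_class (R ⧸ I) t hP gT
  obtain ⟨d, hd, hdg⟩ := exists_class R b' hP gQ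
  let c' : H28PicGrp.IC f (Over.mk t) := ⟨c, hc⟩
  -- the exponent is invertible on the base
  have hnR : IsUnit ((n : R)) := by
    have h1 : IsUnit ((n : Γ(P.left, D))) := by
      have := RingedSpace.isUnit_res_basicOpen P.left.toRingedSpace (n : Γ(P.left, ⊤))
      rwa [map_natCast] at this
    have h2 : IsUnit ((n : Γ(D.toScheme, ⊤))) := by
      have := h1.map D.topIso.inv.hom
      rwa [map_natCast] at this
    have h3 : IsUnit ((n : R ⧸ I)) := by
      have := (h2.map a.appTop.hom).map (Scheme.ΓSpecIso (CommRingCat.of (R ⧸ I))).hom.hom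
      rwa [map_natCast, map_natCast] at this
    rw [← map_natCast (Ideal.Quotient.mk I)] at h3
    exact isUnit_of_map_unit (Ideal.Quotient.mk I) _ h3
  let Y := pullback f b'
  have hnY : IsUnit ((n : Γ(Y, ⊤))) := by
    have := (hnR.map (Scheme.ΓSpecIso (CommRingCat.of R)).inv.hom).map (pullback.snd f b').appTop.hom
    rwa [map_natCast, map_natCast] at this
  let i : pullback f t ⟶ Y := PicF.XTmap f j
  have hsq : IsPullback i (pullback.snd f t) (pullback.snd f b') th :=
    IsPullback.of_right (h₁₂ := pullback.fst f b') (v₁₃ := f) (h₂₂ := b')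
      (by rw [show i ≫ pullback.fst f b' = pullback.fst f t from H17.PullCl.XTmap_fst f j]
          exact IsPullback.of_hasPullback f t)
      (H17.PullCl.XTmap_snd f j) (IsPullback.of_hasPullback f b')
  haveI : IsClosedImmersion i := MorphismProperty.of_isPullback hsq.flip ‹_›
  have hi : i.ker * i.ker = ⊥ := by
    rw [← hsq.isoPullback_hom_fst, Scheme.Hom.ker_comp_of_isIso,
      Scheme.IdealSheafData.ker_fst_of_isClosedImmersion, ← H29Blow.comap_mul,
      H12Pic.PicCurve.SmoothPic.ker_thick_mul_self hI, eq_bot_iff,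
      ← Scheme.IdealSheafData.le_map_iff_comap_le]
    exact bot_le
  have hrel : (show Cls (pullback f t) from c) ^ n = pull i d := by
    refine class_unique (R ⧸ I) (f := f) t hP (pow_mem c' n) (H17.PullCl.isInvertibleCl_pullCl _ hd) ?_
    obtain ⟨L, hL, hL'⟩ := hc
    refine Eq.trans ?_ (((Over.OverMorphism.ext (show (a ≫ D.ι) ≫ m.left = th ≫ b by
      rw [Category.assoc]; exact hab.symm) : gT ≫ m = j ≫ gQ)).trans
        ((congrArg (j ≫ ·) hdg.symm).trans (hP.natural Q (Over.mk t) j d hd).symm))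
    rw [← hcg, ← hL, ← hm (Over.mk t) L hL']
    refine congrArg (φ _) ?_
    show _ = cls (CohB1.tensorPow L n)
    rw [Groth.Agent.H25Theta.cls_pow]
    rfl
  obtain ⟨e, he, hen, hec⟩ := exists_root_closedImm i hi n hnY hc hd hrel
  let h : Q ⟶ P := φ Q e
  have hjh : j ≫ h = gT := by
    rw [← hP.natural Q (Over.mk t) j e he]
    exact (congrArg (φ (Over.mk t)) hec).trans hcg
  have hhm : h ≫ m = gQ := by
    obtain ⟨L, hL, hL'⟩ := he
    show φ Q e ≫ m = gQ
    rw [← hL, ← hm Q L hL', ← hdg]
    refine congrArg (φ _) ?_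
    show cls (CohB1.tensorPow L n) = _
    rw [Groth.Agent.H25Theta.cls_pow, show cls L = e from hL, hen]
  have hr : Set.range h.left ⊆ Set.range D.ι := by
    rintro _ ⟨x, rfl⟩
    rw [Scheme.Opens.range_ι]
    obtain ⟨z, rfl⟩ : ∃ z, th z = x := H8Props.FormallySmoothScheme.comap_mk_surjective hI x
    rw [← Scheme.Hom.comp_apply, show th ≫ h.left = a ≫ D.ι from congrArg (fun w => w.left) hjh]
    exact (a z).2
  refine ⟨IsOpenImmersion.lift D.ι h.left hr, ?_, ?_⟩
  · rw [← cancel_mono D.ι, Category.assoc, IsOpenImmersion.lift_fac]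
    exact congrArg (fun w => w.left) hjh
  · rw [IsOpenImmersion.lift_fac_assoc]
    exact congrArg (fun w => w.left) hhm

/-- The power map is étale where the exponent is invertible. -/
theorem etale_pow (hP : PicRel.IsRelPic f P φ) (n : ℕ) (m : P ⟶ P)
    (hm : ∀ (T : Over S) (L : (PicF.XT f T).Modules), PicF.IsInvertible L →
      φ T (PicF.cl (CohB1.tensorPow L n)) = φ T (PicF.cl L) ≫ m) :
    Etale ((P.left.basicOpen (n : Γ(P.left, ⊤))).ι ≫ m.left) := by
  have hs := smooth_pow hP n m hm
  letI := H28PicGrp.grpObj hP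
  haveI : IsCommMonObj P := H28PicGrp.isCommMonObj hP
  haveI : IsLocallyNoetherian P.left := LocallyOfFiniteType.isLocallyNoetherian P.hom
  haveI : LocallyOfFiniteType (m.left ≫ P.hom) := by rw [Over.w m]; infer_instance
  haveI : LocallyOfFiniteType m.left := locallyOfFiniteType_of_comp m.left P.hom
  haveI : LocallyOfFinitePresentation m.left := inferInstance
  have hmpow := eq_pow hP n m hm
  let D := P.left.basicOpen (n : Γ(P.left, ⊤))
  have key : ∀ x : P.left, x ∈ D → ∃ U : P.left.Opens, x ∈ U ∧ Etale (U.ι ≫ m.left) := fun x hx => by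
    refine (H06EGA9.exists_etale_iff m.left x).2 ⟨?_, ?_⟩
    · haveI : Smooth (D.ι ≫ m.left) := hs
      exact H17.LocusBC.subset_smoothLocus_of_smooth m.left D hx
    let s := P.hom x
    let r : Spec (CommRingCat.of (S.residueField s)) ⟶ S := S.fromSpecResidueField s
    let F := Over.pullback r
    letI : GrpObj (F.obj P) := Functor.grpObjObj
    haveI : LocallyOfFiniteType (F.obj P).hom := MorphismProperty.pullback_snd P.hom r ‹LocallyOfFiniteType P.hom›
    obtain ⟨x', hx', -⟩ := Scheme.Pullback.exists_preimage_pullback (f := P.hom) (g := r) x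
      (IsLocalRing.closedPoint (S.residueField s)) (Scheme.fromSpecResidueField_apply s _).symm
    have hne : ((n : ℤ) : S.residueField s) ≠ 0 := fun h0 => by
      rw [Int.cast_natCast] at h0
      have hu := (P.left.mem_basicOpen (n : Γ(P.left, ⊤)) x (show x ∈ (⊤ : P.left.Opens) from trivial)).1 hx
      have h1 : (P.left.presheaf.germ ⊤ x trivial) (n : Γ(P.left, ⊤)) = (n : P.left.presheaf.stalk x) :=
        map_natCast _ n
      have h2 := ((hu.map (IsLocalRing.residue _)))
      rw [h1, map_natCast] at h2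
      have h3 : ((n : P.left.residueField x)) = 0 := by
        rw [← map_natCast (P.hom.residueFieldMap x).hom, h0, map_zero]
      exact h2.ne_zero h3
    have hC : IsCommMonObj (F.obj P) := inferInstance
    have hE := H19Grp.etale_zpow_field' (F.obj P) (n : ℤ) hne
    have e : F.map m = 𝟙 (F.obj P) ^ (n : ℤ) := by
      rw [hmpow, zpow_natCast]
      refine (map_pow (Functor.homMonoidHom F (X := P) (M := P)) (𝟙 P) n).trans ?_
      show (F.map (𝟙 P)) ^ n = _
      rw [F.map_id]
    rw [← e] at hE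
    have hp : IsPullback (F.map m).left (pullback.fst P.hom r) (pullback.fst P.hom r) m.left := by
      refine (IsPullback.of_bot (v₂₁ := pullback.snd P.hom r) (v₂₂ := P.hom) (h₃₁ := r) ?_ ?_
        (IsPullback.of_hasPullback P.hom r)).flip
      · rw [show (F.map m).left ≫ pullback.snd P.hom r = pullback.snd P.hom r from
          Over.w (F.map m), Over.w m]
        exact IsPullback.of_hasPullback P.hom r
      · simp [F]
        exact (pullback.lift_fst _ _ _).symm
    have hu : x' ∈ H06EGA9.unramSet (F.map m).left :=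
      (H06EGA9.exists_formallyUnramified_iff _ x').1 ⟨⊤, trivial, inferInstance⟩
    have h := (H06EGA9.mem_unramSet_baseChange_iff m.left hp.flip x').1 hu
    rwa [hx'] at h
  choose U hU hUe using key
  refine IsZariskiLocalAtSource.of_openCover (P := @Etale)
    (D.toScheme.openCoverOfIsOpenCover (fun x : D => D.ι ⁻¹ᵁ U x.1 x.2)
      (.mk (eq_top_iff.2 fun y _ => Opens.mem_iSup.2 ⟨y, hU y.1 y.2⟩))) fun y => ?_
  show Etale ((D.ι ⁻¹ᵁ U y.1 y.2).ι ≫ D.ι ≫ m.left)
  rw [← morphismRestrict_ι_assoc D.ι (U y.1 y.2)]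
  haveI := hUe y.1 y.2
  infer_instance

end Groth.Agent.H28PicTan
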