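import Groth.Agent.H26Def.PicSeq
import Groth.Agent.H28Vert.VertGroup
import Groth.Agent.H25Theta.Cls
import Groth.Agent.LeadFF.Gen
import Groth.Agent.H12Pic.PicCurve.SqZeroPic

/-!
# Roots of invertible classes lift along a first order thickening when the order is invertible
-/

set_option autoImplicit false
set_option linter.style.haveILetI false
set_option linter.unusedSectionVars false
set_option backward.isDefEq.respectTransparency.types false
set_option maxHeartbeats 1600000

noncomputable section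

universe u

open CategoryTheory CategoryTheory.Limits AlgebraicGeometry Opposite TopologicalSpace

namespace Groth.Agent.H28PicTan

open Groth.Agent.LeadFF
open Groth.Agent.H25Theta (Cls pull)

attribute [local instance] H28Vert.picLaw
attribute [local instance 10000] H10Coh.hasSheafifyAb H10Coh.hasWeakSheafifyAb H10Coh.hasExtAb H10Coh.enoughInjAb

variable {Y : Scheme.{u}}

theorem Hm_nsmul_id (M : Y.Modules) (p n : ℕ) (x : Coh.HH Y M p) : Hm (n • 𝟙 M) p x = n • x := by
  induction n with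
  | zero =>
    have h := Hm_add (0 : M ⟶ M) 0 p x
    rw [add_zero] at h
    rw [zero_smul, zero_smul]
    exact left_eq_add.1 h
  | succ n ih => rw [succ_nsmul, succ_nsmul, Hm_add, ih, Hm_id]

/-- An integer which is invertible on a scheme acts bijectively on cohomology. -/
theorem bijective_nsmul (n : ℕ) (hn : IsUnit (n : Γ(Y, ⊤))) (M : Y.Modules) (p : ℕ) :
    Function.Bijective fun x : Coh.HH Y M p => n • x := by
  haveI : IsIso (n • 𝟙 M) := by
    refine Scheme.Modules.Hom.isIso_iff_isIso_app.2 fun V => (ConcreteCategory.isIso_iff_bijective _).2 ?_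
    have hu : IsUnit (n : Γ(Y, V)) := by
      have := hn.map (Y.presheaf.map (homOfLE (le_top : V ≤ ⊤)).op).hom
      rwa [map_natCast] at this
    have happm : ∀ (m : ℕ) (y : Γ(M, V)), (m • 𝟙 M : M ⟶ M).app V y = m • y := fun m y => by
      induction m with
      | zero => rw [zero_smul, zero_smul]; rfl
      | succ m ih => rw [succ_nsmul, succ_nsmul]; exact congrArg (· + y) ih
    have happ : ∀ y : Γ(M, V), (n • 𝟙 M : M ⟶ M).app V y = (n : Γ(Y, V)) • y := fun y => by
      rw [Nat.cast_smul_eq_nsmul, happm]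
    exact ⟨fun a b h => hu.smul_left_cancel.1 (by rwa [happ, happ] at h), fun b => ⟨(↑hu.unit⁻¹ : Γ(Y, V)) • b, by
      rw [happ, smul_smul, IsUnit.mul_val_inv, one_smul]⟩⟩
  have h1 : ∀ x, Hm (inv (n • 𝟙 M)) p (Hm (n • 𝟙 M) p x) = x := fun x => by
    rw [← Hm_comp, IsIso.hom_inv_id, Hm_id]
  have h2 : ∀ x, Hm (n • 𝟙 M) p (Hm (inv (n • 𝟙 M)) p x) = x := fun x => by
    rw [← Hm_comp, IsIso.inv_hom_id, Hm_id]
  exact ⟨fun a b h => by rw [← h1 a, ← h1 b, Hm_nsmul_id, Hm_nsmul_id]; exact congrArg _ h,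
    fun b => ⟨Hm (inv (n • 𝟙 M)) p b, (Hm_nsmul_id M p n _).symm.trans (h2 b)⟩⟩

theorem val_pow (c : PicLoc.PicSet Y) (n : ℕ) : ((c ^ n).1 : Cls Y) = (show Cls Y from c.1) ^ n := by
  induction n with
  | zero => rw [pow_zero, pow_zero, PicGrp.one_val]; rfl
  | succ n ih =>
    rw [pow_succ, pow_succ, ← ih, PicGrp.mul_val]
    obtain ⟨L, hL', hL⟩ := PicGrp.exists_eq_cls (c ^ n)
    obtain ⟨M, hM', hM⟩ := PicGrp.exists_eq_cls c
    rw [hL, hM]
    rfl

/-- Roots of invertible classes lift along a first order thickening when the order is invertible. -/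
theorem exists_root (I : Y.IdealSheafData) (hI : I * I = ⊥) (n : ℕ) (hn : IsUnit (n : Γ(Y, ⊤)))
    {c : Cls I.subscheme} (hc : PicF.IsInvertibleCl c) {d : Cls Y} (hd : PicF.IsInvertibleCl d)
    (h : c ^ n = pull I.subschemeι d) :
    ∃ e : Cls Y, PicF.IsInvertibleCl e ∧ e ^ n = d ∧ pull I.subschemeι e = c := by
  obtain ⟨-, -, α, δ₁, -, -, -, -, hα, hδ⟩ := H26Def.PicSeq.exists_seq Y I hI (H28Vert.pullMul I.subschemeι)
  let res := PicGrp.pullHom I.subschemeι (H28Vert.pullMul I.subschemeι)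
  let c' : PicLoc.PicSet I.subscheme := ⟨c, hc⟩
  let d' : PicLoc.PicSet Y := ⟨d, hd⟩
  have h' : c' ^ n = res d' := Subtype.ext ((val_pow c' n).trans h)
  have h1 : δ₁ (res d') = 1 := MonoidHom.mem_ker.1 (hδ ▸ MonoidHom.mem_range.2 ⟨d', rfl⟩)
  have h2 : δ₁ c' = 1 := by
    refine Multiplicative.toAdd.injective ((bijective_nsmul n hn (ClSub.idealMod I) 2).1 ?_)
    show n • Multiplicative.toAdd (δ₁ c') = n • Multiplicative.toAdd (1 : Multiplicative _)
    rw [← toAdd_pow, ← map_pow, h', h1, toAdd_one, smul_zero]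
  obtain ⟨e, he⟩ : c' ∈ res.range := hδ ▸ MonoidHom.mem_ker.2 h2
  obtain ⟨x, hx⟩ : d' * (e ^ n)⁻¹ ∈ α.range := hα ▸ MonoidHom.mem_ker.2 (by
    show res (d' * (e ^ n)⁻¹) = 1
    rw [map_mul, map_inv, map_pow, he, h', mul_inv_cancel])
  obtain ⟨y, hy⟩ := (bijective_nsmul n hn (ClSub.idealMod I) 1).2 (Multiplicative.toAdd x)
  have hy' : Multiplicative.ofAdd y ^ n = x := Multiplicative.toAdd.injective ((toAdd_pow _ _).trans hy)
  refine ⟨(e * α (Multiplicative.ofAdd y)).1, (e * α (Multiplicative.ofAdd y)).2, ?_, ?_⟩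
  · rw [← val_pow, mul_pow, ← map_pow, hy', hx, mul_comm d', mul_inv_cancel_left]
  · show (res (e * α (Multiplicative.ofAdd y))).1 = _
    have h3 : res (α (Multiplicative.ofAdd y)) = 1 :=
      MonoidHom.mem_ker.1 (hα ▸ MonoidHom.mem_range.2 ⟨_, rfl⟩)
    rw [map_mul, he, h3, mul_one]

/-- The same along a closed immersion. -/
theorem exists_root_closedImm {Z : Scheme.{u}} (i : Z ⟶ Y) [IsClosedImmersion i] (hi : i.ker * i.ker = ⊥) (n : ℕ)
    (hn : IsUnit (n : Γ(Y, ⊤))) {c : Cls Z} (hc : PicF.IsInvertibleCl c) {d : Cls Y}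
    (hd : PicF.IsInvertibleCl d) (h : c ^ n = pull i d) :
    ∃ e : Cls Y, PicF.IsInvertibleCl e ∧ e ^ n = d ∧ pull i e = c := by
  obtain ⟨e, he, hen, hec⟩ := exists_root i.ker hi n hn (c := pull (inv i.toImage) c)
    (H17.PullCl.isInvertibleCl_pullCl _ hc) hd (by
      rw [← map_pow, h, Groth.Agent.H25Theta.pull_pull]
      exact congrArg (fun m => pull m d) (by rw [IsIso.inv_comp_eq]; exact i.toImage_imageι.symm))
  refine ⟨e, he, hen, ?_⟩
  have h2 := congrArg (pull i.toImage) hec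
  rw [Groth.Agent.H25Theta.pull_pull, Groth.Agent.H25Theta.pull_pull, IsIso.hom_inv_id, Groth.Agent.H25Theta.pull_id] at h2
  exact (congrArg (fun m => pull m e) i.toImage_imageι.symm).trans h2

end Groth.Agent.H28PicTan
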