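import Groth.Agent.H12Pic.PicCurve.SmoothPic
import Groth.Agent.LeadBC.GenBC.Conseq
import Groth.Agent.LeadBC.EtaleFibre
import Groth.Agent.H28PicTan.Point
import Groth.Agent.H11Ample.RelQuasiAffine
import Groth.Agent.H06EGA9.StructureStalk
import Groth.Agent.H06EGA12.GeomRkOpen
import Groth.Agent.H29Blow.Basic

/-!
# The obstruction group of the deformations of invertible sheaves

Near a point whose fibre has vanishing `H²(O)`, the second cohomology of the ideal of a thickening
`X_R ⊗ R/I ⊂ X_R` vanishes.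
-/

set_option autoImplicit false
set_option linter.style.haveILetI false
set_option linter.unusedSectionVars false
set_option backward.isDefEq.respectTransparency.types false
set_option maxHeartbeats 1600000

noncomputable section

universe u

open CategoryTheory CategoryTheory.Limits AlgebraicGeometry Opposite TopologicalSpace

namespace Groth.Agent.H28PicTan

open Groth.Agent.LeadBC Groth.Agent.LeadBC.GenBC Groth.Agent.LeadFF Groth.Agent.H06FlatCx

attribute [local instance 10000] H10Coh.hasSheafifyAb H10Coh.hasWeakSheafifyAb H10Coh.hasExtAb H10Coh.enoughInjAb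

/-- The isomorphisms of modules act bijectively on cohomology. -/
theorem subsingleton_HH_of_iso {X : Scheme.{u}} {M N : X.Modules} (e : M ≅ N) (p : ℕ)
    (h : Subsingleton (Coh.HH X M p)) : Subsingleton (Coh.HH X N p) :=
  ⟨fun a b => by
    have hh : ∀ c, Hm e.hom p (Hm e.inv p c) = c := fun c => by
      rw [← Hm_comp, e.inv_hom_id, Hm_id]
    rw [← hh a, ← hh b, Subsingleton.elim (Hm e.inv p a) (Hm e.inv p b)]⟩

section Affine

variable {R : Type u} [CommRing R] {X : Scheme.{u}} [X.Over (Spec (CommRingCat.of R))]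

local notation "πX" => (X ↘ Spec (CommRingCat.of R))

/-- The sequence of the ideal generated by an ideal of the base. -/
theorem subsingleton_HH_idealMod (K : X.IdealSheafData) (I : Ideal R)
    (hK : ∀ V : X.affineOpens, K.ideal V = I.map (scal πX V.1))
    (h1 : (CohIII.tensorAFunctor R (Coh.structureModule X) ⋙ CohIII.HAb X 1).PreservesEpimorphisms)
    (h2 : Subsingleton (Coh.HH X (Coh.structureModule X) 2)) :
    Subsingleton (Coh.HH X (ClSub.idealMod K) 2) := by
  let Q := Et.QI I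
  let q : ModuleCat.of R R ⟶ Q := ModuleCat.ofHom (Submodule.mkQ I)
  let π : Coh.structureModule X ⟶ (CohIII.tensorAFunctor R (Coh.structureModule X)).obj Q := Et.qMap X I
  have hker : ∀ (V : X.affineOpens) (r : Γ(X, V.1)),
      π.app V.1 (show Γ(Coh.structureModule X, V.1) from r) = 0 ↔ r ∈ K.ideal V := fun V r => by
    rw [hK]; exact Et.qv_eq_zero_iff I V.2 r
  have hsub : ∀ (V : X.affineOpens) (r : Γ(X, V.1)),
      (ClSub.toSubscheme K).app V.1 (show Γ(Coh.structureModule X, V.1) from r) = 0 ↔ r ∈ K.ideal V := fun V r => by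
    refine Iff.trans ?_ (SetLike.ext_iff.1 (K.ker_subschemeι_app V) r)
    rfl
  have hι : ClSub.idealModι K ≫ π = 0 := hom_ext_affine _ _ fun V hV y => by
    show π.app V ((ClSub.idealModι K).app V y) = 0
    refine (hker ⟨V, hV⟩ _).2 ((hsub ⟨V, hV⟩ _).1 ?_)
    exact congr($(congr(Scheme.Modules.Hom.app $(kernel.condition (ClSub.toSubscheme K)) V)) y)
  have hlift : kernel.ι π ≫ ClSub.toSubscheme K = 0 := hom_ext_affine _ _ fun V hV y => by
    show (ClSub.toSubscheme K).app V ((kernel.ι π).app V y) = 0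
    refine (hsub ⟨V, hV⟩ _).2 ((hker ⟨V, hV⟩ _).1 ?_)
    exact congr($(congr(Scheme.Modules.Hom.app $(kernel.condition π) V)) y)
  haveI : Epi π := ⟨fun a b hab => hom_ext_affine _ _ fun V hV y => by
    obtain ⟨x, rfl⟩ := Et.qv_surjective I hV y
    exact congr($(congr(Scheme.Modules.Hom.app $hab V)) (show Γ(Coh.structureModule X, V) from x))⟩
  haveI : Mono (ClSub.idealModι K) := inferInstanceAs (Mono (kernel.ι _))
  let S : ShortComplex X.Modules := ShortComplex.mk (ClSub.idealModι K) π hι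
  have hS : S.ShortExact := by
    haveI : Mono S.f := ‹Mono (ClSub.idealModι K)›
    haveI : Epi S.g := ‹Epi π›
    refine ⟨ShortComplex.exact_of_f_is_kernel _ (KernelFork.IsLimit.ofι' _ _ fun {A} a ha => ?_)⟩
    have hk : a ≫ ClSub.toSubscheme K = 0 := by
      rw [← kernel.lift_ι π a ha, Category.assoc, hlift, comp_zero]
    exact ⟨kernel.lift _ a hk, kernel.lift_ι _ _ _⟩
  haveI := isIso_uMap_one R (Coh.structureModule X) (X := X)
  haveI : Epi q := (ModuleCat.epi_iff_surjective q).2 (Submodule.mkQ_surjective _)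
  have hπ : π = uMap R (Coh.structureModule X) (ModuleCat.of R R) (1 : R) ≫
      (CohIII.tensorAFunctor R (Coh.structureModule X)).map q :=
    (uMap_natural R (Coh.structureModule X) q 1).symm
  have hsurj : Function.Surjective (Hm π 1) := fun y => by
    have hs : Function.Surjective (Hm ((CohIII.tensorAFunctor R (Coh.structureModule X)).map q) 1) :=
      (AddCommGrpCat.epi_iff_surjective _).1 (h1.preserves q)
    obtain ⟨z, hz⟩ := hs y
    refine ⟨Hm (inv (uMap R (Coh.structureModule X) (ModuleCat.of R R) (1 : R))) 1 z, ?_⟩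
    rw [← Hm_comp, hπ, IsIso.inv_hom_id_assoc, hz]
  refine subsingleton_of_forall_eq 0 fun x => ?_
  obtain ⟨z, hz⟩ : ∃ z, dl hS 1 z = x :=
    Abelian.Ext.covariant_sequence_exact₁ _ (H10Coh.shortExact_sh hS) x
      (h2.elim (Hm S.f 2 x) 0) rfl
  obtain ⟨y, rfl⟩ := hsurj z
  rw [← hz]
  exact (Abelian.Ext.comp_assoc_of_second_deg_zero _ _ _ _).trans
    ((congrArg (fun w => y.comp w (by norm_num)) (H10Coh.shortExact_sh hS).comp_extClass).trans
      (Abelian.Ext.comp_zero y _ _ _ _))

end Affine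

variable {X S : Scheme.{u}} (f : X ⟶ S) [IsProper f] [Flat f] [LocallyOfFinitePresentation f]

/-- Near a point with `H²(X_s, O) = 0` the obstruction groups of the deformations of invertible
sheaves vanish. -/
theorem exists_obstruction_nhd (s : S)
    (h : Subsingleton (CohIII.fiberH f (Coh.structureModule X) s 2)) :
    ∃ W : S.Opens, s ∈ W ∧ ∀ (R : Type u) [CommRing R] [IsLocalRing R]
      (b : Spec (CommRingCat.of R) ⟶ S), b (IsLocalRing.closedPoint R) ∈ W → ∀ (I : Ideal R)
      (K : (pullback f b).IdealSheafData),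
      K = (H14IsoNat.SHCrit.thick I).ker.comap (pullback.snd f b) →
      Subsingleton (Coh.HH (pullback f b) (ClSub.idealMod K) 2) := by
  have hfp : CohB1.IsFP (Coh.structureModule X) := H06EGA9.isFP_structureModule
  have hfl := H06EGA12.isFlatOver_structureModule f
  haveI : (Coh.structureModule X).IsQuasicoherent := H10Coh.isQuasicoherent_unit
  let O := Coh.structureModule X
  obtain ⟨V, hV, hs, -⟩ := exists_isAffineOpen_mem_and_subset (U := (⊤ : S.Opens)) (x := s) trivial
  letI := preOver f hV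
  obtain ⟨ι, _, U, hU, ⟨m⟩⟩ := exists_chart f hV O hfp hfl
  have hT := ((subsingleton_fiberH_iff f hV hU m hs 2).1).1 h
  obtain ⟨V₁, hV₁, hs₁, -, he₁⟩ := exists_epiOn_nhd f O hV hfp hfl hU m hs 2
    (spannedAt_of_subsingleton_T m.P _ _ hT)
  clear hT
  letI := preOver f hV₁
  obtain ⟨ι₁, _, U₁, hU₁, ⟨m₁⟩⟩ := exists_chart f hV₁ O hfp hfl
  have hE := (epiOn_iff f O hV₁ hU₁ m₁ 2).1 he₁
  obtain ⟨c, hc, hkill⟩ := exists_kill m₁.P m₁.finite_free _ hE _
    (((subsingleton_fiberH_iff f hV₁ hU₁ m₁ hs₁ 2).1).1 h)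
  refine ⟨S.basicOpen c, (S.mem_basicOpen c s hs₁).2
    ((H29Blow.mem_primeIdealOf_iff hV₁ ⟨s, hs₁⟩ c).not_left.1 hc), fun R _ _ b hb I K hK => ?_⟩
  -- the base lands in the basic open
  have hr : Set.range b ⊆ Set.range hV₁.fromSpec := by
    rintro _ ⟨x, rfl⟩
    rw [hV₁.range_fromSpec]
    exact ((IsLocalRing.specializes_closedPoint x).map b.continuous).mem_open V₁.2 (S.basicOpen_le c hb)
  let ρc : CommRingCat.of Γ(S, V₁) ⟶ CommRingCat.of R := Spec.preimage (IsOpenImmersion.lift hV₁.fromSpec b hr)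
  let ρ := ρc.hom
  have hρ : Spec.map (CommRingCat.ofHom ρ) ≫ hV₁.fromSpec = b := by
    show Spec.map ρc ≫ hV₁.fromSpec = b
    rw [Spec.map_preimage, IsOpenImmersion.lift_fac]
  have hu : IsUnit (ρ c) := by
    by_contra hn
    have hm : ρ c ∈ IsLocalRing.maximalIdeal R := hn
    have hx : b (IsLocalRing.closedPoint R) ∈ S.basicOpen c := hb
    rw [← hρ] at hx
    have h2 : Spec.map (CommRingCat.ofHom ρ) (IsLocalRing.closedPoint R) ∈
        hV₁.fromSpec ⁻¹ᵁ S.basicOpen c := hx
    rw [hV₁.fromSpec_preimage_basicOpen] at h2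
    exact h2 hm
  let Y := pullback f b
  letI : Y.Over (Spec (CommRingCat.of R)) := ⟨pullback.snd f b⟩
  haveI : IsProper (pullback.snd f b) := MorphismProperty.pullback_snd _ _ ‹IsProper f›
  have hP := isPullback_preOver f hV₁
  let q : Y ⟶ (f ⁻¹ᵁ V₁).toScheme := hP.lift (pullback.fst f b)
    (pullback.snd f b ≫ Spec.map (CommRingCat.ofHom ρ)) (by rw [Category.assoc, hρ]; exact pullback.condition)
  have hsq : IsPullback q (Y ↘ Spec (CommRingCat.of R))
      ((f ⁻¹ᵁ V₁).toScheme ↘ Spec (CommRingCat.of Γ(S, V₁))) (Spec.map (CommRingCat.ofHom ρ)) :=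
    IsPullback.of_right (h₁₂ := (f ⁻¹ᵁ V₁).ι) (v₁₃ := f) (h₂₂ := hV₁.fromSpec)
      (by rw [IsPullback.lift_fst, hρ]; exact IsPullback.of_hasPullback f b) (hP.lift_snd _ _ _) hP
  haveI := LeadFF.isAffineHom_fst hsq
  haveI : (O.restrict (f ⁻¹ᵁ V₁).ι).IsQuasicoherent := Scheme.Modules.isQuasicoherent_restrictFunctor _ O
  haveI : (Coh.structureModule Y).IsQuasicoherent := H10Coh.isQuasicoherent_unit
  obtain ⟨eO⟩ := H11Ample.nonempty_pullback_structureModule_iso (q ≫ (f ⁻¹ᵁ V₁).ι)
  obtain ⟨m', hN, hP'⟩ := exists_model_bc ρ hsq hU₁ m₁ rfl (hbound_of_isAffineHom q m₁.bound)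
    (Coh.structureModule Y)
    ((Scheme.Modules.pullback q).mapIso ((Scheme.Modules.restrictFunctorIsoPullback (f ⁻¹ᵁ V₁).ι).app O) ≪≫
      (Scheme.Modules.pullbackComp q (f ⁻¹ᵁ V₁).ι).app O ≪≫ eO)
  have hU' : GoodCover (preU q U₁) := by
    letI := ρ.toAlgebra
    exact goodCover_preU (A := Γ(S, V₁)) (S := R) (hsq := hsq) (hU := hU₁)
  have hall : ∀ M, Subsingleton ((CohIII.TFun m'.P ((m'.N : ℤ) - (2 : ℕ))).obj M) := by
    rw [hN, hP']
    exact fun M => subsingleton_T_bc m₁.P m₁.finite_free _ hE c hkill ρ hu M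
  have h1 : (CohIII.tensorAFunctor R (Coh.structureModule Y) ⋙ CohIII.HAb Y 1).PreservesEpimorphisms := by
    refine (preservesEpi_iff (m'.iso hU' 1)).2 ?_
    refine (epi_iff_mono_pred m'.P (fun i => flat_X m'.P m'.finite_free i)
      (q := (m'.N : ℤ) - (2 : ℕ)) (by push_cast; ring)).2 ?_
    exact preservesMono_of_forall_subsingleton _ _ hall
  have h2 : Subsingleton (Coh.HH Y (Coh.structureModule Y) 2) := by
    haveI := isIso_uMap_one R (Coh.structureModule Y) (X := Y)
    refine subsingleton_HH_of_iso (asIso (uMap R (Coh.structureModule Y) (ModuleCat.of R R) (1 : R))).symm 2 ?_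
    exact @Equiv.subsingleton _ _ ((m'.iso hU' 2).app (ModuleCat.of R R)).toLinearEquiv.toEquiv.symm (hall _)
  subst hK
  refine subsingleton_HH_idealMod _ I (fun W => ?_) h1 h2
  rw [H29Blow.ideal_comap _ (pullback.snd f b) ⟨⊤, isAffineOpen_top _⟩ W le_top, Scheme.Hom.ker_apply]
  rw [show RingHom.ker ((H14IsoNat.SHCrit.thick I).app ⊤).hom =
    Ideal.map (Scheme.ΓSpecIso (CommRingCat.of R)).inv.hom I from H17.RegPres.ker_appTop_spec I, Ideal.map_map]
  rfl

end Groth.Agent.H28PicTan
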